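import Mathlib
import Groth.Agent.H25.ChevOpenB
import Groth.Agent.H17.Chev.QFAff3

/-!
# Irreducible open neighbourhoods of unibranch points when there are finitely many components
-/

set_option autoImplicit false
set_option linter.style.haveILetI false
universe u
open CategoryTheory Limits AlgebraicGeometry

namespace Groth.Agent.H17.Unib

/-- a point with irreducible local ring on a scheme with finitely many irreducible components has
an irreducible open neighbourhood -/
theorem exists_irreducible_open_nhd (S : Scheme.{u})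
    (hfin : (irreducibleComponents (S : Type u)).Finite) (s : S)
    (hs : (nilradical (S.presheaf.stalk s)).IsPrime) :
    ∃ S' : S.Opens, s ∈ S' ∧ IsIrreducible (S' : Set S) := by
  set Z₁ : Set S := irreducibleComponent s with hZ₁
  have hZ₁mem : Z₁ ∈ irreducibleComponents (S : Type u) :=
    irreducibleComponent_mem_irreducibleComponents s
  set C : Set S := ⋃₀ (irreducibleComponents (S : Type u) \ {Z₁}) with hC
  have hCcl : IsClosed C := by
    rw [hC, Set.sUnion_eq_biUnion]
    refine Set.Finite.isClosed_biUnion (hfin.subset Set.sdiff_subset) ?_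
    intro Z hZ
    exact isClosed_of_mem_irreducibleComponents Z hZ.1
  have hsC : s ∉ C := by
    rintro ⟨Z, ⟨hZ, hne⟩, hsZ⟩
    apply hne
    rw [Set.mem_singleton_iff]
    exact Groth.Agent.H25.ChevCore.component_unique_of_nilradical_isPrime S s hs Z hZ Z₁ hZ₁mem hsZ
      mem_irreducibleComponent
  have hsub : Cᶜ ⊆ Z₁ := by
    intro t ht
    by_contra htZ
    apply ht
    refine ⟨irreducibleComponent t, ⟨irreducibleComponent_mem_irreducibleComponents t, ?_⟩,
      mem_irreducibleComponent⟩
    rw [Set.mem_singleton_iff]
    intro heq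
    apply htZ
    rw [← heq]
    exact mem_irreducibleComponent
  refine ⟨⟨Cᶜ, hCcl.isOpen_compl⟩, hsC, ⟨s, hsC⟩, ?_⟩
  exact hZ₁mem.1.2.open_subset hCcl.isOpen_compl hsub

/-- the preimage in affine space of an irreducible open subset of the base is irreducible -/
theorem isIrreducible_preimage_affineSpace (n : Type u) (S : Scheme.{u}) (S' : S.Opens)
    (h : IsIrreducible (S' : Set S)) :
    IsIrreducible (((𝔸(n; S) ↘ S) ⁻¹ᵁ S' : (𝔸(n; S)).Opens) : Set ↥𝔸(n; S)) := by
  haveI : IrreducibleSpace ↥(S' : Scheme.{u}) := Subtype.irreducibleSpace h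
  have hpb := (AffineSpace.isPullback_map (n := n) S'.ι).flip
  have h1 := Scheme.image_preimage_eq_of_isPullback hpb Set.univ
  rw [Set.preimage_univ, Set.image_univ, Set.image_univ] at h1
  have h2 : Set.range S'.ι.base = (S' : Set S) := by
    simp
  have h3 : (((𝔸(n; S) ↘ S) ⁻¹ᵁ S' : (𝔸(n; S)).Opens) : Set ↥𝔸(n; S)) =
      Set.range (AffineSpace.map n S'.ι).base := by
    rw [h1, h2]
    rfl
  rw [h3, ← Set.image_univ]
  exact (IrreducibleSpace.isIrreducible_univ _).image _
    (AffineSpace.map n S'.ι).continuous.continuousOn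

end Groth.Agent.H17.Unib
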