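import Mathlib

/-!
# An integral extension of an integrally closed domain is open on spectra

`R` integrally closed domain, `S ⊇ R` a domain integral over `R`: then
`Spec S → Spec R` is an open map (no finiteness assumptions).
-/

set_option autoImplicit false
set_option linter.style.haveILetI false
universe u

namespace Groth.Agent.H17.Unib

open Polynomial

/-- `R[b]` is finite free and finitely presented over an integrally closed domain `R`, hence
`Spec R[b] → Spec R` is open. -/
theorem isOpenMap_comap_adjoin {R S : Type u} [CommRing R] [IsDomain R] [IsIntegrallyClosed R]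
    [CommRing S] [IsDomain S] [Algebra R S] [FaithfulSMul R S] (b : S) (hb : IsIntegral R b) :
    IsOpenMap (PrimeSpectrum.comap (algebraMap R (Algebra.adjoin R ({b} : Set S)))) := by
  have hmon : (minpoly R b).Monic := minpoly.monic hb
  let e := minpoly.equivAdjoin hb
  haveI : Module.Free R (AdjoinRoot (minpoly R b)) := hmon.free_adjoinRoot
  haveI : Module.Free R (Algebra.adjoin R ({b} : Set S)) :=
    Module.Free.of_equiv e.toLinearEquiv
  haveI : Algebra.FinitePresentation R (AdjoinRoot (minpoly R b)) := by
    unfold AdjoinRoot
    exact Algebra.FinitePresentation.quotient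
      ⟨{minpoly R b}, by rw [Finset.coe_singleton]⟩
  haveI : Algebra.FinitePresentation R (Algebra.adjoin R ({b} : Set S)) :=
    Algebra.FinitePresentation.equiv e
  exact PrimeSpectrum.isOpenMap_comap_of_hasGoingDown_of_finitePresentation

/-- **Integral extensions of normal domains are open.** -/
theorem isOpenMap_comap_of_isIntegrallyClosed {R S : Type u} [CommRing R] [IsDomain R]
    [IsIntegrallyClosed R] [CommRing S] [IsDomain S] [Algebra R S] [FaithfulSMul R S]
    [Algebra.IsIntegral R S] : IsOpenMap (PrimeSpectrum.comap (algebraMap R S)) := by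
  rw [PrimeSpectrum.isTopologicalBasis_basic_opens.isOpenMap_iff]
  rintro _ ⟨b, rfl⟩
  let T := Algebra.adjoin R ({b} : Set S)
  let b' : T := ⟨b, Algebra.subset_adjoin (Set.mem_singleton b)⟩
  have hopen := isOpenMap_comap_adjoin (R := R) b (Algebra.IsIntegral.isIntegral b)
  have hint : Algebra.IsIntegral T S := Algebra.IsIntegral.tower_top (R := R)
  have hsurj : Function.Surjective (PrimeSpectrum.comap (algebraMap T S)) := by
    intro q
    obtain ⟨Q, hQ, hQq⟩ := Ideal.exists_ideal_over_prime_of_isIntegral_of_isDomain
      (S := S) q.asIdeal (by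
        rw [(RingHom.injective_iff_ker_eq_bot (algebraMap T S)).mp Subtype.val_injective]
        exact bot_le)
    exact ⟨⟨Q, hQ⟩, PrimeSpectrum.ext hQq⟩
  have himg : PrimeSpectrum.comap (algebraMap R S) ''
      (PrimeSpectrum.basicOpen b : Set (PrimeSpectrum S)) =
      PrimeSpectrum.comap (algebraMap R T) ''
        (PrimeSpectrum.basicOpen b' : Set (PrimeSpectrum T)) := by
    ext p
    constructor
    · rintro ⟨q, hq, rfl⟩
      refine ⟨PrimeSpectrum.comap (algebraMap T S) q, ?_, ?_⟩
      · exact hq
      · rfl
    · rintro ⟨q', hq', rfl⟩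
      obtain ⟨q, rfl⟩ := hsurj q'
      exact ⟨q, hq', rfl⟩
  rw [himg]
  exact hopen _ (PrimeSpectrum.basicOpen b').isOpen

end Groth.Agent.H17.Unib
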