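import Mathlib
import Groth.Prelude.Def_EGA43
import Groth.Agent.H17.Unib.NormalOpen

/-!
# Integral extensions of domains are open at points over unibranch points

`A ⊆ B` domains, `B` integral over `A`, `q` a prime of `B` such that the integral closure of `A`
in its fraction field has exactly one prime over `p = q ∩ A`.  Then `Spec B → Spec A` is open at
`q`.
-/

set_option autoImplicit false
set_option linter.style.haveILetI false
universe u

namespace Groth.Agent.H17.Unib

open Ideal

theorem isOpenAt_comap_of_isIntegral_of_subsingleton {A B : Type u} [CommRing A] [IsDomain A]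
    [CommRing B] [IsDomain B] [Algebra A B]
    (hinj : Function.Injective (algebraMap A B)) [Algebra.IsIntegral A B] (q : PrimeSpectrum B)
    (huniq : ∀ P₁ P₂ : PrimeSpectrum (integralClosure A (FractionRing A)),
      P₁.asIdeal.comap (algebraMap A (integralClosure A (FractionRing A))) =
        q.asIdeal.comap (algebraMap A B) →
      P₂.asIdeal.comap (algebraMap A (integralClosure A (FractionRing A))) =
        q.asIdeal.comap (algebraMap A B) → P₁ = P₂) :
    EGA43.IsOpenAt (PrimeSpectrum.comap (algebraMap A B)) q := by
  classical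
  have : FaithfulSMul A B := (faithfulSMul_iff_algebraMap_injective A B).2 hinj
  have : FaithfulSMul A (FractionRing B) := by
    rw [faithfulSMul_iff_algebraMap_injective, IsScalarTower.algebraMap_eq A B (FractionRing B)]
    exact (IsFractionRing.injective B (FractionRing B)).comp hinj
  let K := FractionRing A
  let L := FractionRing B
  letI algKL : Algebra K L := FractionRing.liftAlgebra A L
  have towerAKL : IsScalarTower A K L := FractionRing.isScalarTower_liftAlgebra A L
  let A' := integralClosure A K
  let C := integralClosure A L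
  have hA'ic : IsIntegrallyClosed A' :=
    integralClosure.isIntegrallyClosedOfFiniteExtension K (L := K)
  let φ₀ : K →ₐ[A] L := IsScalarTower.toAlgHom A K L
  let φ : A' →ₐ[A] C :=
    { toFun := fun x => ⟨φ₀ x.1, x.2.map φ₀⟩
      map_one' := by ext; simp
      map_mul' := by intro x y; ext; simp
      map_zero' := by ext; simp
      map_add' := by intro x y; ext; simp
      commutes' := by intro r; ext; simp [φ₀] }
  letI algA'C : Algebra A' C := φ.toRingHom.toAlgebra
  have towerAA'C : IsScalarTower A A' C := IsScalarTower.of_algebraMap_eq'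
    (RingHom.ext fun r => (φ.commutes r).symm)
  have hφinj : Function.Injective φ := by
    intro x y hxy
    have : φ₀ x.1 = φ₀ y.1 := congrArg Subtype.val hxy
    exact Subtype.ext (φ₀.toRingHom.injective this)
  have : FaithfulSMul A' C := (faithfulSMul_iff_algebraMap_injective A' C).2 hφinj
  have hCint : Algebra.IsIntegral A C := inferInstance
  have hCint' : Algebra.IsIntegral A' C := Algebra.IsIntegral.tower_top (R := A)
  let ψ : B →ₐ[A] C :=
    { toFun := fun b => ⟨algebraMap B L b, (Algebra.IsIntegral.isIntegral b).map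
        (IsScalarTower.toAlgHom A B L)⟩
      map_one' := by ext; simp
      map_mul' := by intro x y; ext; simp
      map_zero' := by ext; simp
      map_add' := by intro x y; ext; simp
      commutes' := by intro r; ext; simp [IsScalarTower.algebraMap_apply A B L] }
  letI algBC : Algebra B C := ψ.toRingHom.toAlgebra
  have towerABC : IsScalarTower A B C := IsScalarTower.of_algebraMap_eq'
    (RingHom.ext fun r => (ψ.commutes r).symm)
  have hψinj : Function.Injective ψ := by
    intro x y hxy
    have : algebraMap B L x = algebraMap B L y := congrArg Subtype.val hxy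
    exact IsFractionRing.injective B L this
  have hCintB : Algebra.IsIntegral B C := Algebra.IsIntegral.tower_top (R := A)
  -- the three maps on spectra
  have hCopen : IsOpenMap (PrimeSpectrum.comap (algebraMap A' C)) :=
    isOpenMap_comap_of_isIntegrallyClosed
  have hsurjBC : Function.Surjective (PrimeSpectrum.comap (algebraMap B C)) := by
    intro Q
    obtain ⟨Q', hQ', hQQ'⟩ := Ideal.exists_ideal_over_prime_of_isIntegral_of_isDomain
      (S := C) Q.asIdeal (by
        rw [(RingHom.injective_iff_ker_eq_bot (algebraMap B C)).mp hψinj]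
        exact bot_le)
    exact ⟨⟨Q', hQ'⟩, PrimeSpectrum.ext hQQ'⟩
  have hsurjAA' : Function.Surjective (PrimeSpectrum.comap (algebraMap A A')) := by
    intro P
    obtain ⟨P', hP', hPP'⟩ := Ideal.exists_ideal_over_prime_of_isIntegral_of_isDomain
      (S := A') P.asIdeal (by
        rw [(RingHom.injective_iff_ker_eq_bot (algebraMap A A')).mp
          (FaithfulSMul.algebraMap_injective A A')]
        exact bot_le)
    exact ⟨⟨P', hP'⟩, PrimeSpectrum.ext hPP'⟩
  have hclosed : IsClosedMap (PrimeSpectrum.comap (algebraMap A A')) :=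
    PrimeSpectrum.isClosedMap_comap_of_isIntegral _ Algebra.IsIntegral.isIntegral
  have hcomm : ∀ Q : PrimeSpectrum C,
      PrimeSpectrum.comap (algebraMap A A') (PrimeSpectrum.comap (algebraMap A' C) Q) =
        PrimeSpectrum.comap (algebraMap A B) (PrimeSpectrum.comap (algebraMap B C) Q) := by
    intro Q
    apply PrimeSpectrum.ext
    change (Q.asIdeal.comap (algebraMap A' C)).comap (algebraMap A A') =
      (Q.asIdeal.comap (algebraMap B C)).comap (algebraMap A B)
    rw [comap_comap, comap_comap, ← IsScalarTower.algebraMap_eq, ← IsScalarTower.algebraMap_eq]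
  -- main argument
  intro N hN
  obtain ⟨N₁, hN₁N, hN₁o, hqN₁⟩ := mem_nhds_iff.mp hN
  set N' : Set (PrimeSpectrum C) := PrimeSpectrum.comap (algebraMap B C) ⁻¹' N₁ with hN'
  have hN'o : IsOpen N' := hN₁o.preimage (PrimeSpectrum.continuous_comap (algebraMap B C))
  obtain ⟨qC, hqC⟩ := hsurjBC q
  have hqCN' : qC ∈ N' := by
    change PrimeSpectrum.comap (algebraMap B C) qC ∈ N₁
    rw [hqC]; exact hqN₁
  set M : Set (PrimeSpectrum A') := PrimeSpectrum.comap (algebraMap A' C) '' N' with hM
  have hMo : IsOpen M := hCopen _ hN'o
  set F : Set (PrimeSpectrum A) := PrimeSpectrum.comap (algebraMap A A') '' Mᶜ with hF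
  have hFc : IsClosed F := hclosed _ hMo.isClosed_compl
  have hpbar : PrimeSpectrum.comap (algebraMap A A') (PrimeSpectrum.comap (algebraMap A' C) qC) =
      PrimeSpectrum.comap (algebraMap A B) q := by
    rw [hcomm qC, hqC]
  have hpF : PrimeSpectrum.comap (algebraMap A B) q ∉ F := by
    rintro ⟨P, hPM, hP⟩
    apply hPM
    have h1 : P = PrimeSpectrum.comap (algebraMap A' C) qC := by
      apply huniq
      · exact congrArg PrimeSpectrum.asIdeal hP
      · exact congrArg PrimeSpectrum.asIdeal hpbar
    rw [h1]
    exact ⟨qC, hqCN', rfl⟩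
  rw [mem_nhds_iff]
  refine ⟨Fᶜ, ?_, hFc.isOpen_compl, hpF⟩
  intro p₁ hp₁
  obtain ⟨P₁, rfl⟩ := hsurjAA' p₁
  have hP₁M : P₁ ∈ M := by
    by_contra hcon
    exact hp₁ ⟨P₁, hcon, rfl⟩
  obtain ⟨Q, hQN', rfl⟩ := hP₁M
  rw [hcomm Q]
  exact ⟨_, hN₁N hQN', rfl⟩

end Groth.Agent.H17.Unib
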