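import Mathlib
import Groth.Prelude.Def_EGA43
import Groth.Agent.H17.Unib.IntegralOpen
import Groth.Agent.H25.OpenAt

/-!
# Quasi-finite extensions of domains are open at points over unibranch points

`A ⊆ B` domains, `B` of finite type over `A` and quasi-finite at the prime `q`; if the
normalization of `A` has a unique prime over `p = q ∩ A`, then `Spec B → Spec A` is open at `q`.
(Zariski's main theorem reduces to the integral case.)  No Noetherian or finite presentation
hypotheses.
-/

set_option autoImplicit false
set_option linter.style.haveILetI false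
universe u

namespace Groth.Agent.H17.Unib

/-- a map which restricts to an open map through an open embedding containing the point is open
at the point -/
theorem isOpenAt_of_comp_isOpenMap {α β γ : Type*} [TopologicalSpace α] [TopologicalSpace β]
    [TopologicalSpace γ] (j : α → β) (ι : γ → α) (hι : Continuous ι) (hji : IsOpenMap (j ∘ ι))
    (c : γ) : EGA43.IsOpenAt j (ι c) := by
  intro N hN
  have h1 : ι ⁻¹' N ∈ nhds c := hι.continuousAt.preimage_mem_nhds hN
  have h2 : (j ∘ ι) '' (ι ⁻¹' N) ∈ nhds ((j ∘ ι) c) := hji.image_mem_nhds h1
  refine Filter.mem_of_superset h2 ?_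
  rintro _ ⟨t, ht, rfl⟩
  exact ⟨ι t, ht, rfl⟩

theorem isOpenAt_comap_of_quasiFiniteAt_of_subsingleton {A B : Type u} [CommRing A] [IsDomain A]
    [CommRing B] [IsDomain B] [Algebra A B] [FaithfulSMul A B] [Algebra.FiniteType A B]
    (q : PrimeSpectrum B) [Algebra.QuasiFiniteAt A q.asIdeal]
    (huniq : ∀ P₁ P₂ : PrimeSpectrum (integralClosure A (FractionRing A)),
      P₁.asIdeal.comap (algebraMap A (integralClosure A (FractionRing A))) =
        q.asIdeal.comap (algebraMap A B) →
      P₂.asIdeal.comap (algebraMap A (integralClosure A (FractionRing A))) =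
        q.asIdeal.comap (algebraMap A B) → P₁ = P₂) :
    EGA43.IsOpenAt (PrimeSpectrum.comap (algebraMap A B)) q := by
  obtain ⟨S', hS', r, hrq, hbij⟩ :=
    Algebra.QuasiFiniteAt.exists_fg_and_exists_notMem_and_awayMap_bijective (R := A) q.asIdeal
  haveI : Module.Finite A S' := ⟨(Submodule.fg_top _).mpr hS'⟩
  haveI : Algebra.IsIntegral A S' := inferInstance
  have hinjS' : Function.Injective (algebraMap A S') := by
    intro a b hab
    apply FaithfulSMul.algebraMap_injective A B
    have := congrArg S'.val hab
    simpa using this
  -- the map `Spec B → Spec S'` is open at `q`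
  let j : PrimeSpectrum B → PrimeSpectrum S' := PrimeSpectrum.comap (algebraMap S' B)
  let φ : (Localization.Away r) →+* (Localization.Away r.1) :=
    Localization.awayMap S'.val.toRingHom r
  let e : (Localization.Away r) ≃+* (Localization.Away r.1) := RingEquiv.ofBijective φ hbij
  have hφ : ∀ t : S', φ (algebraMap S' (Localization.Away r) t) =
      algebraMap B (Localization.Away r.1) t.1 := by
    intro t
    change Localization.awayMap S'.val.toRingHom r (algebraMap S' (Localization.Away r) t) = _
    unfold Localization.awayMap IsLocalization.Away.map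
    exact IsLocalization.map_eq (S := Localization.Away r)
      (Q := Localization.Away (S'.val.toRingHom r)) _ t
  let ιB : PrimeSpectrum (Localization.Away r.1) → PrimeSpectrum B :=
    PrimeSpectrum.comap (algebraMap B (Localization.Away r.1))
  let ιS : PrimeSpectrum (Localization.Away r) → PrimeSpectrum S' :=
    PrimeSpectrum.comap (algebraMap S' (Localization.Away r))
  have hιB : Topology.IsOpenEmbedding ιB :=
    PrimeSpectrum.localization_away_isOpenEmbedding (Localization.Away r.1) r.1
  have hιS : Topology.IsOpenEmbedding ιS :=
    PrimeSpectrum.localization_away_isOpenEmbedding (Localization.Away r) r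
  have hcomm : j ∘ ιB = ιS ∘ PrimeSpectrum.comap φ := by
    funext Q
    apply PrimeSpectrum.ext
    change ((Q.asIdeal.comap (algebraMap B (Localization.Away r.1))).comap (algebraMap S' B)) =
      ((Q.asIdeal.comap φ).comap (algebraMap S' (Localization.Away r)))
    ext t
    simp only [Ideal.mem_comap]
    rw [hφ t]
    rfl
  have hopen : IsOpenMap (j ∘ ιB) := by
    rw [hcomm]
    refine hιS.isOpenMap.comp ?_
    exact (PrimeSpectrum.isHomeomorph_comap_of_bijective hbij).isOpenMap
  obtain ⟨Q, hQ⟩ : q ∈ Set.range ιB := by
    rw [PrimeSpectrum.localization_away_comap_range (Localization.Away r.1) r.1]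
    exact hrq
  have hjq : EGA43.IsOpenAt j q := by
    rw [← hQ]
    exact isOpenAt_of_comp_isOpenMap j ιB (PrimeSpectrum.continuous_comap _) hopen Q
  -- the integral part
  have hq' : EGA43.IsOpenAt (PrimeSpectrum.comap (algebraMap A S')) (j q) := by
    apply isOpenAt_comap_of_isIntegral_of_subsingleton hinjS'
    intro P₁ P₂ h₁ h₂
    apply huniq P₁ P₂
    · rw [h₁]; rfl
    · rw [h₂]; rfl
  have := Groth.Agent.H25.isOpenAt_comp hjq hq'
  refine Groth.Agent.H25.isOpenAt_congr ?_ this
  funext Q'
  apply PrimeSpectrum.ext
  rfl

end Groth.Agent.H17.Unib
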