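import Mathlib
import Groth.Prelude.Def_CAlg2

/-!
# Unibranchness only depends on the reduction

* `isUnibranch_of_red_ringEquiv`: a ring isomorphism `red D ≃+* red D'` transports unibranchness.
* `isUnibranch_of_surjective`: a surjection of local rings with nil kernel transports unibranchness.
* `isUnibranch_atPrime_quotient`: if `R_p` is unibranch and `I` is a nil ideal then
  `(R/I)_{p/I}` is unibranch.
-/

set_option autoImplicit false
set_option linter.style.haveILetI false
universe u

namespace Groth.Agent.H17.Unib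

/-- the isomorphism of normalizations induced by an isomorphism of domains -/
noncomputable def normEquivOfRingEquiv {D D' : Type u} [CommRing D] [IsDomain D] [CommRing D']
    [IsDomain D'] (e : D ≃+* D') :
    integralClosure D (FractionRing D) ≃+* integralClosure D' (FractionRing D') :=
  let E : FractionRing D ≃+* FractionRing D' := IsFractionRing.ringEquivOfRingEquiv e
  have hE : ∀ a : D, E (algebraMap D (FractionRing D) a) = algebraMap D' (FractionRing D') (e a) :=
    fun a => IsFractionRing.ringEquivOfRingEquiv_algebraMap e a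
  have hE' : ∀ a : D', E.symm (algebraMap D' (FractionRing D') a) =
      algebraMap D (FractionRing D) (e.symm a) := fun a => by
    rw [RingEquiv.symm_apply_eq, hE, RingEquiv.apply_symm_apply]
  have h1 : (algebraMap D' (FractionRing D')).comp (e : D →+* D') =
      (E : FractionRing D →+* FractionRing D').comp (algebraMap D (FractionRing D)) :=
    RingHom.ext fun a => (hE a).symm
  have h2 : (algebraMap D (FractionRing D)).comp (e.symm : D' →+* D) =
      (E.symm : FractionRing D' →+* FractionRing D).comp (algebraMap D' (FractionRing D')) :=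
    RingHom.ext fun a => (hE' a).symm
  { toFun := fun x => ⟨E x.1, (mem_integralClosure_iff _ _).2
      (IsIntegral.map_of_comp_eq (e : D →+* D') (E : FractionRing D →+* FractionRing D') h1
        ((mem_integralClosure_iff _ _).1 x.2))⟩
    invFun := fun y => ⟨E.symm y.1, (mem_integralClosure_iff _ _).2
      (IsIntegral.map_of_comp_eq (e.symm : D' →+* D)
        (E.symm : FractionRing D' →+* FractionRing D) h2 ((mem_integralClosure_iff _ _).1 y.2))⟩
    left_inv := fun x => Subtype.ext (E.symm_apply_apply x.1)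
    right_inv := fun y => Subtype.ext (E.apply_symm_apply y.1)
    map_mul' := fun x y => Subtype.ext (map_mul E x.1 y.1)
    map_add' := fun x y => Subtype.ext (map_add E x.1 y.1) }

theorem isUnibranch_of_red_ringEquiv {D D' : Type u} [CommRing D] [IsLocalRing D] [CommRing D']
    [IsLocalRing D'] (e : CAlg2.red D ≃+* CAlg2.red D') (h : CAlg2.IsUnibranch D) :
    CAlg2.IsUnibranch D' := by
  haveI : IsDomain (CAlg2.red D) := h.1
  haveI : IsDomain (CAlg2.red D') := e.symm.toMulEquiv.isDomain _
  refine ⟨inferInstance, ?_⟩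
  haveI : IsLocalRing (CAlg2.normRed D) := h.2
  exact (normEquivOfRingEquiv e).isLocalRing

theorem isUnibranch_of_surjective {D D' : Type u} [CommRing D] [IsLocalRing D] [CommRing D']
    [IsLocalRing D'] (φ : D →+* D') (hs : Function.Surjective φ)
    (hk : RingHom.ker φ ≤ nilradical D) (h : CAlg2.IsUnibranch D) : CAlg2.IsUnibranch D' := by
  let f : D →+* CAlg2.red D' := (Ideal.Quotient.mk (nilradical D')).comp φ
  have hf : Function.Surjective f := Ideal.Quotient.mk_surjective.comp hs
  have hker : RingHom.ker f = nilradical D := by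
    ext x
    rw [RingHom.mem_ker, RingHom.comp_apply, Ideal.Quotient.eq_zero_iff_mem, mem_nilradical,
      mem_nilradical]
    constructor
    · rintro ⟨n, hn⟩
      have h1 : x ^ n ∈ RingHom.ker φ := by rw [RingHom.mem_ker, map_pow, hn]
      obtain ⟨m, hm⟩ := mem_nilradical.1 (hk h1)
      exact ⟨n * m, by rw [pow_mul, hm]⟩
    · intro hx
      exact hx.map φ
  exact isUnibranch_of_red_ringEquiv
    ((Ideal.quotEquivOfEq hker.symm).trans (RingHom.quotientKerEquivOfSurjective hf)) h

section AtPrime

variable {R : Type u} [CommRing R] (I : Ideal R) (p : Ideal R) [p.IsPrime]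
  (L : Type u) [CommRing L] [Algebra R L] [IsLocalization.AtPrime L p]
  (p₀ : Ideal (R ⧸ I)) [p₀.IsPrime]
  (L₀ : Type u) [CommRing L₀] [Algebra (R ⧸ I) L₀] [IsLocalization.AtPrime L₀ p₀]

/-- the canonical map `R_p → (R/I)_{p₀}` -/
noncomputable def toRedLoc (hp : p₀.comap (Ideal.Quotient.mk I) = p) : L →+* L₀ :=
  IsLocalization.lift (M := p.primeCompl) (S := L)
    (g := (algebraMap (R ⧸ I) L₀).comp (Ideal.Quotient.mk I))
    (fun y => by
      have : Ideal.Quotient.mk I (y : R) ∈ p₀.primeCompl := by
        intro hmem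
        have : (y : R) ∈ p₀.comap (Ideal.Quotient.mk I) := hmem
        rw [hp] at this
        exact y.2 this
      exact IsLocalization.map_units L₀ ⟨_, this⟩)

theorem toRedLoc_algebraMap (hp : p₀.comap (Ideal.Quotient.mk I) = p) (r : R) :
    toRedLoc I p L p₀ L₀ hp (algebraMap R L r) =
      algebraMap (R ⧸ I) L₀ (Ideal.Quotient.mk I r) :=
  IsLocalization.lift_eq _ r

theorem toRedLoc_surjective (hp : p₀.comap (Ideal.Quotient.mk I) = p) :
    Function.Surjective (toRedLoc I p L p₀ L₀ hp) := by
  intro z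
  obtain ⟨⟨a, s⟩, hz⟩ := IsLocalization.surj p₀.primeCompl z
  obtain ⟨a', rfl⟩ := Ideal.Quotient.mk_surjective a
  obtain ⟨s', hs'⟩ := Ideal.Quotient.mk_surjective (s : R ⧸ I)
  have hs'p : s' ∈ p.primeCompl := by
    intro hmem
    rw [← hp] at hmem
    have : Ideal.Quotient.mk I s' ∈ p₀ := hmem
    rw [hs'] at this
    exact s.2 this
  refine ⟨IsLocalization.mk' L a' ⟨s', hs'p⟩, ?_⟩
  have hu : IsUnit (algebraMap (R ⧸ I) L₀ (s : R ⧸ I)) :=
    IsLocalization.map_units L₀ s
  apply hu.mul_left_injective
  show _ * _ = _ * _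
  simp only at hz
  rw [hz, ← hs', ← toRedLoc_algebraMap I p L p₀ L₀ hp s', ← map_mul,
    IsLocalization.mk'_spec, toRedLoc_algebraMap]

theorem ker_toRedLoc_le (hI : I ≤ nilradical R) (hp : p₀.comap (Ideal.Quotient.mk I) = p) :
    RingHom.ker (toRedLoc I p L p₀ L₀ hp) ≤ nilradical L := by
  intro x hx
  rw [RingHom.mem_ker] at hx
  obtain ⟨a, s, rfl⟩ := IsLocalization.exists_mk'_eq p.primeCompl x
  have h1 : toRedLoc I p L p₀ L₀ hp (algebraMap R L a) = 0 := by
    rw [← IsLocalization.mk'_spec L a s, map_mul, hx, zero_mul]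
  rw [toRedLoc_algebraMap, IsLocalization.map_eq_zero_iff p₀.primeCompl] at h1
  obtain ⟨t, ht⟩ := h1
  obtain ⟨t', ht'⟩ := Ideal.Quotient.mk_surjective (t : R ⧸ I)
  have ht'p : t' ∈ p.primeCompl := by
    intro hmem
    rw [← hp] at hmem
    have : Ideal.Quotient.mk I t' ∈ p₀ := hmem
    rw [ht'] at this
    exact t.2 this
  rw [← ht', ← map_mul, Ideal.Quotient.eq_zero_iff_mem] at ht
  obtain ⟨n, hn⟩ := mem_nilradical.1 (hI ht)
  have hu : IsUnit (algebraMap R L t') := IsLocalization.map_units L ⟨t', ht'p⟩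
  have h2 : (algebraMap R L a) ^ n = 0 := by
    have h3 : (algebraMap R L t') ^ n * (algebraMap R L a) ^ n = 0 := by
      rw [← mul_pow, ← map_mul, ← map_pow, hn, map_zero]
    exact (hu.pow n).mul_right_eq_zero.1 h3
  rw [mem_nilradical]
  refine ⟨n, ?_⟩
  have hus : IsUnit (algebraMap R L (s : R)) := IsLocalization.map_units L s
  have h4 : (IsLocalization.mk' L a s) ^ n * (algebraMap R L (s : R)) ^ n = 0 := by
    rw [← mul_pow, IsLocalization.mk'_spec, h2]
  exact (hus.pow n).mul_left_eq_zero.1 h4

/-- if `R_p` is unibranch and `I` is a nil ideal, then `(R/I)_{p/I}` is unibranch -/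
theorem isUnibranch_atPrime_quotient [IsLocalRing L] [IsLocalRing L₀] (hI : I ≤ nilradical R)
    (hp : p₀.comap (Ideal.Quotient.mk I) = p) (h : CAlg2.IsUnibranch L) : CAlg2.IsUnibranch L₀ :=
  isUnibranch_of_surjective (toRedLoc I p L p₀ L₀ hp) (toRedLoc_surjective I p L p₀ L₀ hp)
    (ker_toRedLoc_le I p L p₀ L₀ hI hp) h

end AtPrime

end Groth.Agent.H17.Unib
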