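import Mathlib
import Groth.Prelude.Def_CAlg2
import Groth.Agent.H38.NormRedIC

/-!
# Unibranch localizations: uniqueness of the prime of the normalization over `p`
-/

set_option autoImplicit false
set_option linter.style.haveILetI false
universe u

namespace Groth.Agent.H17.Unib

theorem subsingleton_primesOver_of_isUnibranch {A : Type u} [CommRing A] [IsDomain A]
    (p : Ideal A) [p.IsPrime] (h : CAlg2.IsUnibranch (Localization.AtPrime p))
    (P₁ P₂ : PrimeSpectrum (integralClosure A (FractionRing A)))
    (h₁ : P₁.asIdeal.comap (algebraMap A (integralClosure A (FractionRing A))) = p)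
    (h₂ : P₂.asIdeal.comap (algebraMap A (integralClosure A (FractionRing A))) = p) :
    P₁ = P₂ := by
  have hc := Groth.Agent.H38.card_maxSpec_normRed A (FractionRing A) p (Localization.AtPrime p)
  haveI : IsLocalRing (CAlg2.normRed (Localization.AtPrime p)) := h.2
  haveI : Subsingleton (MaximalSpectrum (CAlg2.normRed (Localization.AtPrime p))) := by
    constructor
    intro a b
    ext1
    rw [IsLocalRing.eq_maximalIdeal a.isMaximal, IsLocalRing.eq_maximalIdeal b.isMaximal]
  have h1 : ENat.card (MaximalSpectrum (CAlg2.normRed (Localization.AtPrime p))) ≤ 1 :=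
    (ENat.card_le_one_iff_subsingleton _).2 inferInstance
  rw [hc] at h1
  have hs := (ENat.card_le_one_iff_subsingleton _).1 h1
  have := hs.elim ⟨P₁, h₁⟩ ⟨P₂, h₂⟩
  exact congrArg Subtype.val this

end Groth.Agent.H17.Unib
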