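import Mathlib
import Groth.Prelude.Def_EGA43
import Groth.Prelude.Def_CAlg2
import Groth.Agent.H17.Unib.QFOpen
import Groth.Agent.H17.Unib.UnibUniq
import Groth.Agent.H17.Unib.RedTransfer
import Groth.Agent.H25.OpenAt

/-!
# Openness at a quasi-finite point over a unibranch point, without reducedness

`R → C` of finite type, quasi-finite at `q`; `R_p` unibranch for `p = q ∩ R`; `q₀ ⊆ q` a prime
of `C` whose contraction to `R` is contained in every prime of `R` (so `Spec R` is irreducible and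
`q₀` lies over its generic point).  Then `Spec C → Spec R` is open at `q`.
-/

set_option autoImplicit false
set_option linter.style.haveILetI false
universe u

namespace Groth.Agent.H17.Unib

theorem isOpenAt_comap_of_quasiFiniteAt_of_isUnibranch (R C : Type u) [CommRing R] [CommRing C]
    [Algebra R C] [Algebra.FiniteType R C] (q : PrimeSpectrum C)
    [Algebra.QuasiFiniteAt R q.asIdeal]
    (L : Type u) [CommRing L] [IsLocalRing L] [Algebra R L]
    [IsLocalization.AtPrime L (q.asIdeal.under R)] (hL : CAlg2.IsUnibranch L)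
    (q₀ : Ideal C) [q₀.IsPrime] (hq₀ : q₀ ≤ q.asIdeal)
    (hgen : ∀ p' : Ideal R, p'.IsPrime → q₀.under R ≤ p') :
    EGA43.IsOpenAt (PrimeSpectrum.comap (algebraMap R C)) q := by
  have hnil : q₀.under R ≤ nilradical R := by
    rw [nilradical_eq_sInf]
    exact le_sInf fun p' hp' => hgen p' hp'
  haveI : q₀.LiesOver (q₀.under R) := ⟨rfl⟩
  haveI : (q₀.under R).IsPrime := Ideal.IsPrime.under R q₀
  -- the prime `qb` of `C / q₀`
  have hker : RingHom.ker (Ideal.Quotient.mk q₀) ≤ q.asIdeal := by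
    rw [Ideal.mk_ker]; exact hq₀
  haveI hqbp : (q.asIdeal.map (Ideal.Quotient.mk q₀)).IsPrime :=
    Ideal.map_isPrime_of_surjective Ideal.Quotient.mk_surjective hker
  let qb : PrimeSpectrum (C ⧸ q₀) := ⟨q.asIdeal.map (Ideal.Quotient.mk q₀), hqbp⟩
  have hqb : qb.asIdeal.comap (Ideal.Quotient.mk q₀) = q.asIdeal := by
    show (q.asIdeal.map (Ideal.Quotient.mk q₀)).comap (Ideal.Quotient.mk q₀) = q.asIdeal
    rw [Ideal.comap_map_of_surjective _ Ideal.Quotient.mk_surjective, ← RingHom.ker_eq_comap_bot,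
      sup_eq_left]
    exact hker
  -- finite type and quasi-finiteness
  haveI : Algebra.FiniteType R (C ⧸ q₀) := inferInstance
  haveI : Algebra.FiniteType (R ⧸ q₀.under R) (C ⧸ q₀) :=
    Algebra.FiniteType.of_restrictScalars_finiteType R _ _
  haveI h1 : Algebra.QuasiFiniteAt R qb.asIdeal :=
    Algebra.QuasiFiniteAt.of_surjectiveOnStalks q.asIdeal (Ideal.Quotient.mkₐ R q₀)
      (RingHom.surjectiveOnStalks_of_surjective (Ideal.Quotient.mkₐ_surjective R q₀)) qb.asIdeal
      hqb.symm
  haveI h2 : Algebra.QuasiFiniteAt (R ⧸ q₀.under R) qb.asIdeal :=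
    Algebra.QuasiFinite.of_restrictScalars R _ _
  -- unibranchness
  have hp : (qb.asIdeal.comap (algebraMap (R ⧸ q₀.under R) (C ⧸ q₀))).comap
      (Ideal.Quotient.mk (q₀.under R)) = q.asIdeal.under R := by
    rw [Ideal.comap_comap]
    have : (algebraMap (R ⧸ q₀.under R) (C ⧸ q₀)).comp (Ideal.Quotient.mk (q₀.under R)) =
        (Ideal.Quotient.mk q₀).comp (algebraMap R C) := by
      ext r; rfl
    rw [this, ← Ideal.comap_comap, hqb]
  have hU : CAlg2.IsUnibranch (Localization.AtPrime
      (qb.asIdeal.comap (algebraMap (R ⧸ q₀.under R) (C ⧸ q₀)))) :=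
    isUnibranch_atPrime_quotient (q₀.under R) (q.asIdeal.under R) L _ _ hnil hp hL
  have h3 : EGA43.IsOpenAt (PrimeSpectrum.comap (algebraMap (R ⧸ q₀.under R) (C ⧸ q₀))) qb :=
    isOpenAt_comap_of_quasiFiniteAt_of_subsingleton qb
      (fun P₁ P₂ h₁ h₂ => subsingleton_primesOver_of_isUnibranch _ hU P₁ P₂ h₁ h₂)
  -- `Spec (R / p₀) → Spec R` is an open map
  have hιR : IsOpenMap (PrimeSpectrum.comap (Ideal.Quotient.mk (q₀.under R))) := by
    have hce := PrimeSpectrum.isClosedEmbedding_comap_of_surjective (R ⧸ q₀.under R)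
      (Ideal.Quotient.mk (q₀.under R)) Ideal.Quotient.mk_surjective
    have hrange : Set.range (PrimeSpectrum.comap (Ideal.Quotient.mk (q₀.under R))) = Set.univ :=
      (PrimeSpectrum.comap_quotientMk_bijective_of_le_nilradical hnil).2.range_eq
    exact (Topology.IsOpenEmbedding.mk hce.isEmbedding (hrange ▸ isOpen_univ)).isOpenMap
  have h4 := Groth.Agent.H25.isOpenAt_comp h3 (Groth.Agent.H25.isOpenAt_of_isOpenMap hιR _)
  have h5 : PrimeSpectrum.comap (Ideal.Quotient.mk (q₀.under R)) ∘
      PrimeSpectrum.comap (algebraMap (R ⧸ q₀.under R) (C ⧸ q₀)) =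
      PrimeSpectrum.comap (algebraMap R C) ∘ PrimeSpectrum.comap (Ideal.Quotient.mk q₀) := by
    funext x
    apply PrimeSpectrum.ext
    simp only [Function.comp_apply, PrimeSpectrum.comap_asIdeal, Ideal.comap_comap]
    rfl
  rw [h5] at h4
  have h6 := Groth.Agent.H25.isOpenAt_of_comp (PrimeSpectrum.continuous_comap (Ideal.Quotient.mk q₀)) h4
  have h7 : PrimeSpectrum.comap (Ideal.Quotient.mk q₀) qb = q := PrimeSpectrum.ext hqb
  rwa [h7] at h6

end Groth.Agent.H17.Unib
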