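import Mathlib
import Groth.Agent.H17.Unib.QFOpenRed
import Groth.Agent.H25.ChevOpen

/-!
# Universal openness at a quasi-finite point over a geometrically unibranch point (affine case,
no Noetherian hypothesis)
-/

set_option autoImplicit false
set_option linter.style.haveILetI false
universe u
open TensorProduct CategoryTheory Limits AlgebraicGeometry

namespace Groth.Agent.H17.Unib

open Groth.Agent.H25.ChevPoly

theorem isUnivOpenAt_Spec_of_quasiFiniteAt (R C : Type u) [CommRing R] [CommRing C] [Algebra R C]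
    [Algebra.FiniteType R C] (x : Spec (CommRingCat.of C)) [Algebra.QuasiFiniteAt R x.asIdeal]
    (A : Type u) [CommRing A] [IsLocalRing A] [Algebra R A]
    [IsLocalization.AtPrime A (x.asIdeal.under R)] (hA : CAlg2.IsGeomUnibranch A)
    (q₀ : Ideal C) [q₀.IsPrime] (hq₀ : q₀ ≤ x.asIdeal)
    (hgen : ∀ p' : Ideal R, p'.IsPrime → q₀.under R ≤ p') :
    EGA43.IsUnivOpenAt (Spec.map (CommRingCat.ofHom (algebraMap R C))) x := by
  refine isUnivOpenAt_Spec_of_polyOpenAt R C x (fun m p hp => ?_)
  have hq : p.asIdeal.comap (Algebra.TensorProduct.includeRight :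
      C →ₐ[R] MvPolynomial (Fin m) R ⊗[R] C) = x.asIdeal := by
    rw [← hp]
    rfl
  haveI : p.asIdeal.LiesOver (p.asIdeal.under (MvPolynomial (Fin m) R)) := ⟨rfl⟩
  have hPp : (p.asIdeal.under (MvPolynomial (Fin m) R)).under R = x.asIdeal.under R := by
    rw [← hq, Ideal.under_under]
    ext r
    simp only [Ideal.under_def, Ideal.mem_comap]
    rw [← Algebra.TensorProduct.includeRight.commutes]
  haveI : Algebra.Smooth R (MvPolynomial (Fin m) R) := ⟨inferInstance, inferInstance⟩
  have hA' : CAlg2.IsGeomUnibranch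
      (Localization.AtPrime (p.asIdeal.under (MvPolynomial (Fin m) R))) :=
    Groth.Agent.H66.SmoothGU.gu_smooth R (MvPolynomial (Fin m) R) (x.asIdeal.under R)
      (p.asIdeal.under (MvPolynomial (Fin m) R)) hPp A hA _
  haveI := ker_psi_isPrime R C (Fin m) q₀
  have hQ₀ : RingHom.ker (psi R C (Fin m) q₀) ≤ p.asIdeal := by
    rw [ker_psi, Ideal.map_le_iff_le_comap, hq]
    exact hq₀
  haveI : Algebra.QuasiFiniteAt (MvPolynomial (Fin m) R) p.asIdeal :=
    Algebra.QuasiFiniteAt.baseChange (R := R) x.asIdeal p.asIdeal hq.symm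
  have key := isOpenAt_comap_of_quasiFiniteAt_of_isUnibranch (MvPolynomial (Fin m) R)
    (MvPolynomial (Fin m) R ⊗[R] C) p
    (Localization.AtPrime (p.asIdeal.under (MvPolynomial (Fin m) R))) hA'.1
    (RingHom.ker (psi R C (Fin m) q₀)) hQ₀
    (fun P' hP' => under_ker_psi_le R C (Fin m) q₀ P' (hgen _ (Ideal.IsPrime.under R P')))
  exact key

end Groth.Agent.H17.Unib
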