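import Mathlib
import Groth.Agent.H17.Unib.UnivOpenRing
import Groth.Agent.H25.ChevQF

/-!
# Openness and universal openness at a quasi-finite point over a (geometrically) unibranch point

Scheme versions, no Noetherian hypothesis: `g : W ⟶ T` locally of finite type, quasi-finite at `w`,
and `ξ ⤳ w` a generization whose image specializes to every point of `T` (so `T` is irreducible
and `g ξ` is its generic point).
-/

set_option autoImplicit false
set_option linter.style.haveILetI false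
universe u
open CategoryTheory Limits AlgebraicGeometry

namespace Groth.Agent.H17.Unib

open Groth.Agent.H6.UnivOpenDVR Groth.Agent.H25.ChevPoly

/-- common affine setup -/
theorem exists_affine_setup {W T : Scheme.{u}} (g : W ⟶ T) [LocallyOfFiniteType g] (w ξ : W)
    (hξw : ξ ⤳ w) (hqf : g.QuasiFiniteAt w) (hgen : ∀ t : T, g.base ξ ⤳ t) :
    ∃ (V : T.Opens) (U : W.Opens) (hV : IsAffineOpen V) (hU : IsAffineOpen U) (hwU : w ∈ U)
      (hξU : ξ ∈ U) (hUV : U ≤ g ⁻¹ᵁ V),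
      letI := (g.appLE V U hUV).hom.toAlgebra
      Algebra.FiniteType Γ(T, V) Γ(W, U) ∧
      Algebra.QuasiFiniteAt Γ(T, V) (hU.primeIdealOf ⟨w, hwU⟩).asIdeal ∧
      ((hU.primeIdealOf ⟨w, hwU⟩).asIdeal.under Γ(T, V) =
        (hV.primeIdealOf ⟨g.base w, hUV hwU⟩).asIdeal) ∧
      (hU.primeIdealOf ⟨ξ, hξU⟩).asIdeal ≤ (hU.primeIdealOf ⟨w, hwU⟩).asIdeal ∧
      ∀ p' : Ideal Γ(T, V), p'.IsPrime → (hU.primeIdealOf ⟨ξ, hξU⟩).asIdeal.under Γ(T, V) ≤ p' := by
  obtain ⟨V, U, hV, hU, hwU, hUV⟩ := Groth.Agent.H24.exists_affine_charts g w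
  have hξU : ξ ∈ U := hξw.mem_open U.2 hwU
  refine ⟨V, U, hV, hU, hwU, hξU, hUV, ?_⟩
  letI := (g.appLE V U hUV).hom.toAlgebra
  have hcomap : ∀ (z : W) (hz : z ∈ U), ((hU.primeIdealOf ⟨z, hz⟩).asIdeal).under Γ(T, V) =
      (hV.primeIdealOf ⟨g.base z, hUV hz⟩).asIdeal := fun z hz =>
    congrArg PrimeSpectrum.asIdeal (IsAffineOpen.comap_primeIdealOf_appLE V hV U hU hUV hz)
  refine ⟨g.finiteType_appLE hV hU hUV, hqf.quasiFiniteAt hU hV hUV hwU, hcomap w hwU,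
    Groth.Agent.H13.primeIdealOf_le_of_specializes hU hwU hξU hξw, ?_⟩
  intro p' hp'
  rw [hcomap ξ hξU]
  have h1 := Groth.Agent.H24.primeIdealOf_fromSpec hV ⟨p', hp'⟩
  have h2 := Groth.Agent.H13.primeIdealOf_le_of_specializes hV
    (Groth.Agent.H24.fromSpec_mem hV ⟨p', hp'⟩) (hUV hξU) (hgen _)
  rw [h1] at h2
  exact h2

/-- **Universal openness at a quasi-finite point over a geometrically unibranch point.** -/
theorem isUnivOpenAt_of_quasiFiniteAt {W T : Scheme.{u}} (g : W ⟶ T) [LocallyOfFiniteType g]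
    (w ξ : W) (hξw : ξ ⤳ w) (hqf : g.QuasiFiniteAt w)
    (hT : CAlg2.IsGeomUnibranch (T.presheaf.stalk (g.base w)))
    (hgen : ∀ t : T, g.base ξ ⤳ t) : EGA43.IsUnivOpenAt g w := by
  obtain ⟨V, U, hV, hU, hwU, hξU, hUV, hft, hq, hunder, hle, hgen'⟩ :=
    exists_affine_setup g w ξ hξw hqf hgen
  letI := (g.appLE V U hUV).hom.toAlgebra
  letI := T.presheaf.algebra_section_stalk ⟨g.base w, hUV hwU⟩
  haveI hloc := hV.isLocalization_stalk ⟨g.base w, hUV hwU⟩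
  haveI : IsLocalization.AtPrime (T.presheaf.stalk (g.base w))
      (((hU.primeIdealOf ⟨w, hwU⟩).asIdeal).under Γ(T, V)) :=
    atPrime_congr _ _ hunder.symm hloc
  have h1 : EGA43.IsUnivOpenAt (Spec.map (g.appLE V U hUV)) (hU.primeIdealOf ⟨w, hwU⟩) :=
    isUnivOpenAt_Spec_of_quasiFiniteAt Γ(T, V) Γ(W, U) (hU.primeIdealOf ⟨w, hwU⟩)
      (T.presheaf.stalk (g.base w)) hT (hU.primeIdealOf ⟨ξ, hξU⟩).asIdeal hle hgen'
  have h2 : EGA43.IsUnivOpenAt (Spec.map (g.appLE V U hUV) ≫ hV.fromSpec)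
      (hU.primeIdealOf ⟨w, hwU⟩) :=
    Groth.Agent.S4925.result _ _ _ h1 (isUnivOpenAt_of_universallyOpen hV.fromSpec _)
  rw [hV.SpecMap_appLE_fromSpec g hU hUV] at h2
  have h3 := Groth.Agent.S4926.result _ _ _ h2
  rwa [hU.fromSpec_primeIdealOf] at h3

/-- **Openness at a quasi-finite point over a unibranch point.** -/
theorem isOpenAt_of_quasiFiniteAt {W T : Scheme.{u}} (g : W ⟶ T) [LocallyOfFiniteType g]
    (w ξ : W) (hξw : ξ ⤳ w) (hqf : g.QuasiFiniteAt w)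
    (hT : CAlg2.IsUnibranch (T.presheaf.stalk (g.base w)))
    (hgen : ∀ t : T, g.base ξ ⤳ t) : EGA43.IsOpenAt g.base w := by
  obtain ⟨V, U, hV, hU, hwU, hξU, hUV, hft, hq, hunder, hle, hgen'⟩ :=
    exists_affine_setup g w ξ hξw hqf hgen
  letI := (g.appLE V U hUV).hom.toAlgebra
  letI := T.presheaf.algebra_section_stalk ⟨g.base w, hUV hwU⟩
  haveI hloc := hV.isLocalization_stalk ⟨g.base w, hUV hwU⟩
  haveI : IsLocalization.AtPrime (T.presheaf.stalk (g.base w))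
      (((hU.primeIdealOf ⟨w, hwU⟩).asIdeal).under Γ(T, V)) :=
    atPrime_congr _ _ hunder.symm hloc
  have h1 : EGA43.IsOpenAt (Spec.map (g.appLE V U hUV)).base (hU.primeIdealOf ⟨w, hwU⟩) :=
    isOpenAt_comap_of_quasiFiniteAt_of_isUnibranch Γ(T, V) Γ(W, U) (hU.primeIdealOf ⟨w, hwU⟩)
      (T.presheaf.stalk (g.base w)) hT (hU.primeIdealOf ⟨ξ, hξU⟩).asIdeal hle hgen'
  have h2 : EGA43.IsOpenAt (Spec.map (g.appLE V U hUV) ≫ hV.fromSpec).base
      (hU.primeIdealOf ⟨w, hwU⟩) := by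
    have := Groth.Agent.H25.isOpenAt_comp h1
      (Groth.Agent.H25.isOpenAt_of_isOpenMap hV.fromSpec.isOpenEmbedding.isOpenMap _)
    exact this
  rw [hV.SpecMap_appLE_fromSpec g hU hUV] at h2
  have h3 : EGA43.IsOpenAt g.base (hU.fromSpec.base (hU.primeIdealOf ⟨w, hwU⟩)) :=
    Groth.Agent.H25.isOpenAt_of_comp hU.fromSpec.continuous h2
  rwa [hU.fromSpec_primeIdealOf] at h3

end Groth.Agent.H17.Unib
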