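import Mathlib
import Groth.Agent.H17.Unib.SchemeOpenLoc
import Groth.Agent.H17.Unib.IrrNhd
import Groth.Agent.H17.Chev.QFAff3
import Groth.Agent.H66.SmoothGUStalk
import Groth.Agent.H42.AffSmooth

/-!
# Equidimensional morphisms from an irreducible scheme to a geometrically unibranch base with
finitely many irreducible components are universally open at the point (no Noetherian hypothesis)
-/

set_option autoImplicit false
set_option linter.style.haveILetI false
universe u
open CategoryTheory Limits AlgebraicGeometry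

namespace Groth.Agent.H17.Unib

open Groth.Agent.H17.Chev

theorem isUnivOpenAt_of_isEquidimAt_of_irreducible {Z S : Scheme.{u}} [IrreducibleSpace Z]
    (hS : ∀ s : S, CAlg2.IsGeomUnibranch (S.presheaf.stalk s))
    (hfin : (irreducibleComponents (S : Type u)).Finite)
    (r : Z ⟶ S) [LocallyOfFiniteType r] (w : Z) (h : EGA43.IsEquidimAt r w) :
    EGA43.IsUnivOpenAt r w := by
  obtain ⟨e, U, g, hwU, hcomm, hqf, hcomp⟩ := exists_lqf_affineSpace_of_isEquidimAt r w h
  set q := 𝔸(ULift.{u} (Fin e); S) ↘ S with hq_def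
  have : LocallyQuasiFinite g := hqf
  have : LocallyOfFiniteType (g ≫ q) := by rw [hcomm]; infer_instance
  have : LocallyOfFiniteType g := locallyOfFiniteType_of_comp g q
  have : Flat q := Groth.Agent.H42.AffSmooth.flat_over _ S
  have : UniversallyOpen q := inferInstance
  have hηU : genericPoint Z ∈ U := (genericPoint_specializes w).mem_open U.2 hwU
  let ζ : ↥(U : Scheme.{u}) := ⟨genericPoint Z, hηU⟩
  let w' : ↥(U : Scheme.{u}) := ⟨w, hwU⟩
  have hζw : ζ ⤳ w' := (subtype_specializes_iff _ _).mpr (genericPoint_specializes w)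
  have hmaxζ : IsMax ζ := by
    intro b _
    exact (show ζ ⤳ b from (subtype_specializes_iff _ _).mpr (genericPoint_specializes b.1))
  -- `g ζ` is a maximal point
  have hcl : closure ({ζ} : Set ↥(U : Scheme.{u})) ∈ irreducibleComponents (↥U : Type u) :=
    closure_mem_irreducibleComponents_of_isMax (U : Scheme.{u}) ζ hmaxζ
  have h1 := hcomp _ hcl
  rw [closure_image_eq_of_isGenericPoint g.base g.continuous _ ζ isGenericPoint_closure] at h1
  have hgmax : IsMax (g.base ζ) :=
    isMax_of_isGenericPoint_irreducibleComponent _ _ h1 (g.base ζ) isGenericPoint_closure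
  -- an irreducible neighbourhood of the image
  have hsprime : (nilradical (S.presheaf.stalk (r.base w))).IsPrime :=
    (Ideal.Quotient.isDomain_iff_prime _).mp (hS (r.base w)).1.1
  obtain ⟨S', hsS', hirr⟩ := exists_irreducible_open_nhd S hfin (r.base w) hsprime
  have hV'irr := isIrreducible_preimage_affineSpace (ULift.{u} (Fin e)) S S' hirr
  set V' : (𝔸(ULift.{u} (Fin e); S)).Opens := q ⁻¹ᵁ S' with hV'
  have hqg : q.base (g.base w') = r.base w := by
    have := congrArg (fun m => m.base w') hcomm
    exact this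
  have hwV' : g.base w' ∈ V' := by
    show q.base (g.base w') ∈ S'
    rw [hqg]; exact hsS'
  have hζV' : g.base ζ ∈ V' := (hζw.map g.continuous).mem_open V'.2 hwV'
  have hgen : ∀ t : ↥𝔸(ULift.{u} (Fin e); S), t ∈ V' → g.base ζ ⤳ t := by
    intro t ht
    have hη := hV'irr.isGenericPoint_genericPoint_closure
    set η := hV'irr.genericPoint with hηdef
    have h2 : η ⤳ g.base ζ := hη.specializes (subset_closure hζV')
    have h3 : g.base ζ ⤳ η := hgmax (show g.base ζ ≤ η from h2)
    exact h3.trans (hη.specializes (subset_closure ht))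
  have h4 : EGA43.IsUnivOpenAt g w' :=
    isUnivOpenAt_of_quasiFiniteAt' g w' ζ hζw (g.quasiFiniteAt w')
      (Groth.Agent.H66.SmoothGU.isGeomUnibranch_stalk_affineSpace e _ (hS _)) V' hwV' hgen
  have h5 : EGA43.IsUnivOpenAt (g ≫ q) w' :=
    Groth.Agent.S4925.result g q w' h4
      (Groth.Agent.H6.UnivOpenDVR.isUnivOpenAt_of_universallyOpen q _)
  rw [hcomm] at h5
  exact Groth.Agent.S4926.result _ _ _ h5

end Groth.Agent.H17.Unib
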