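import Mathlib
import Groth.Prelude.Def_SGA1
import Groth.Agent.H25.ChevQF
import Groth.Agent.H17.Val.ValGeo
import Groth.Agent.H22.DVRSpec
import Groth.Agent.H6.UnivOpenDVR

/-!
# qfh coverings of a geometrically unibranch Noetherian scheme
-/

set_option autoImplicit false
set_option linter.style.haveILetI false
universe u
open CategoryTheory CategoryTheory.Limits AlgebraicGeometry

namespace Groth.Agent.H17.Unib

/-- universally open surjective morphisms are universally submersive -/
theorem univSubmersive_of_universallyOpen_of_surjective {X Y : Scheme.{u}} (f : X ⟶ Y)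
    [UniversallyOpen f] [Surjective f] : SGA1.UnivSubmersive f := by
  intro X' Y' i₁ i₂ f' sq
  have h1 : UniversallyOpen f' :=
    MorphismProperty.of_isPullback (P := @UniversallyOpen) sq.flip inferInstance
  have h2 : Surjective f' :=
    MorphismProperty.of_isPullback (P := @Surjective) sq.flip inferInstance
  exact f'.isOpenMap.isQuotientMap f'.continuous f'.surjective

/-- if a composite is universally submersive then so is the second morphism -/
theorem univSubmersive_of_comp {X Y Z : Scheme.{u}} (c : X ⟶ Y) (g : Y ⟶ Z)
    (h : SGA1.UnivSubmersive (c ≫ g)) : SGA1.UnivSubmersive g := by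
  intro Y' Z' i₁ i₂ g' sq
  have sq2 : IsPullback (pullback.snd c i₁) (pullback.fst c i₁) i₁ c :=
    (IsPullback.of_hasPullback c i₁).flip
  have sq3 := sq2.paste_horiz sq
  have h1 : Topology.IsQuotientMap (pullback.snd c i₁ ≫ g').base := h _ _ _ sq3
  have h2 : (pullback.snd c i₁ ≫ g').base = g'.base ∘ (pullback.snd c i₁).base := by
    funext z; rfl
  rw [h2] at h1
  exact Topology.IsQuotientMap.of_comp (pullback.snd c i₁).continuous g'.continuous h1

/-- a dominant quasi-finite morphism of irreducible schemes to a geometrically unibranch locally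
Noetherian scheme is universally open -/
theorem universallyOpen_of_isDominant_of_quasiFinite {U X : Scheme.{u}} [IsLocallyNoetherian X]
    [IrreducibleSpace X] [IrreducibleSpace U]
    (hX : ∀ x : X, CAlg2.IsGeomUnibranch (X.presheaf.stalk x)) (π : U ⟶ X)
    [LocallyOfFiniteType π] [LocallyQuasiFinite π] [IsDominant π] : UniversallyOpen π := by
  refine Groth.Agent.H6.UnivOpenDVR.universallyOpen_of_forall_isUnivOpenAt π (fun x => ?_)
  refine Groth.Agent.H25.ChevPoly.isUnivOpenAt_of_quasiFinite π x (genericPoint U)
    (genericPoint_specializes x) (hX _) ?_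
  rw [Groth.Agent.H17.Val.map_genericPoint_of_isDominant π]
  intro t ht
  exact (ht.antisymm (genericPoint_specializes t)).eq

end Groth.Agent.H17.Unib
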