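import Mathlib
import Groth.Agent.H17.Unib.QfhCover

/-!
# qfh coverings: universally submersive families have jointly surjective dominant members
-/

set_option autoImplicit false
set_option linter.style.haveILetI false
universe u
open CategoryTheory CategoryTheory.Limits AlgebraicGeometry

namespace Groth.Agent.H17.Unib

theorem isDominant_of_mem_range_genericPoint {U X : Scheme.{u}} [IrreducibleSpace X] (π : U ⟶ X)
    (u : U) (hu : π.base u = genericPoint X) : IsDominant π := by
  constructor
  rw [DenseRange, dense_iff_closure_eq, Set.eq_univ_iff_forall]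
  intro t
  have h1 : closure {genericPoint X} ⊆ closure (Set.range π.base) :=
    closure_mono (Set.singleton_subset_iff.mpr ⟨u, hu⟩)
  apply h1
  rw [(genericPoint_spec X).def]
  exact Set.mem_univ t

theorem exists_dominant_member_of_univSubmersive {X : Scheme.{u}} [IsLocallyNoetherian X]
    [IrreducibleSpace X] {ι : Type u} (Y : ι → Scheme.{u}) (f : ∀ i, Y i ⟶ X)
    (h : SGA1.UnivSubmersive (Sigma.desc f)) (x : X) :
    ∃ (i : ι) (u : Y i), IsDominant (f i) ∧ (f i).base u = x := by
  classical
  set p := Sigma.desc f with hp
  have hcover : ∀ z : ↥(∐ Y), ∃ (i : ι) (u : Y i), (Sigma.ι Y i).base u = z := by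
    intro z
    obtain ⟨⟨i, u⟩, rfl⟩ := (sigmaMk Y).surjective z
    exact ⟨i, u, (sigmaMk_mk Y i u).symm⟩
  have hpι : ∀ (i : ι) (u : Y i), p.base ((Sigma.ι Y i).base u) = (f i).base u := by
    intro i u
    rw [← Scheme.Hom.comp_apply, hp, Sigma.ι_desc]
  by_cases hx : x = genericPoint X
  · have hq : Topology.IsQuotientMap p.base := h (𝟙 _) (𝟙 _) p (IsPullback.id_vert p)
    obtain ⟨z, hz⟩ := hq.surjective x
    obtain ⟨i, u, rfl⟩ := hcover z
    rw [hpι] at hz
    exact ⟨i, u, isDominant_of_mem_range_genericPoint (f i) u (hz.trans hx), hz⟩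
  · by_contra hcon
    push Not at hcon
    obtain ⟨A, hA, hdvr, hcl, hfac⟩ := Groth.Agent.H22.DVRSpec.exists_dvr_through_specialization
      (𝟙 X) (genericPoint X) x (by simpa using genericPoint_specializes x) (by simpa using hx)
    haveI := hdvr
    -- the generic point of `Spec A` goes to the generic point of `X`
    let pt : Spec (CommRingCat.of (X.residueField (genericPoint X))) := default
    let ηA : Spec (CommRingCat.of A) := (Spec.map (CommRingCat.ofHom A.subtype)).base pt
    have hη : hA.base ηA = genericPoint X := by
      have := congrArg (fun φ => φ.base pt) hfac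
      simp only [Scheme.Hom.comp_apply] at this
      rw [this]
      exact Scheme.fromSpecResidueField_apply (genericPoint X) pt
    have hηbot : ηA.asIdeal = ⊥ := by
      change Ideal.comap A.subtype _ = ⊥
      have hpt : pt.asIdeal = ⊥ := by
        rcases Ideal.eq_bot_or_top pt.asIdeal with h0 | h0
        · exact h0
        · exact absurd h0 pt.2.ne_top
      rw [hpt, ← RingHom.ker_eq_comap_bot, RingHom.ker_eq_bot_iff_eq_zero]
      intro a ha
      exact Subtype.ext ha
    have htwo : ∀ q : Spec (CommRingCat.of A), q ≠ IsLocalRing.closedPoint A → q = ηA := by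
      intro q hq
      have h1 := Groth.Agent.H6.UnivOpenDVR.eq_bot_of_ne_closedPoint q hq
      exact PrimeSpectrum.ext (h1.trans hηbot.symm)
    have hηne : ηA ≠ IsLocalRing.closedPoint A := by
      intro heq
      have h1 : (IsLocalRing.closedPoint A).asIdeal = ⊥ := by rw [← heq]; exact hηbot
      exact IsDiscreteValuationRing.not_a_field A h1
    -- the base change
    have sq : IsPullback (pullback.snd p hA) (pullback.fst p hA) hA p :=
      (IsPullback.of_hasPullback p hA).flip
    have hq : Topology.IsQuotientMap (pullback.snd p hA).base := h _ _ _ sq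
    have hcomm : ∀ z : ↥(pullback p hA), p.base ((pullback.fst p hA).base z) =
        hA.base ((pullback.snd p hA).base z) := by
      intro z
      rw [← Scheme.Hom.comp_apply, ← Scheme.Hom.comp_apply, pullback.condition]
    set O : Set ↥(∐ Y) := ⋃ (i : ι) (_ : ¬ IsDominant (f i)), Set.range (Sigma.ι Y i).base with hO
    have hOopen : IsOpen O := by
      refine isOpen_iUnion fun i => isOpen_iUnion fun _ => ?_
      exact (Sigma.ι Y i).isOpenEmbedding.isOpen_range
    have hC : (pullback.snd p hA).base ⁻¹' {IsLocalRing.closedPoint A} =
        (pullback.fst p hA).base ⁻¹' O := by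
      ext z
      simp only [Set.mem_preimage, hO, Set.mem_iUnion, Set.mem_range, exists_prop]
      constructor
      · intro hz
        obtain ⟨i, u, hu⟩ := hcover ((pullback.fst p hA).base z)
        refine ⟨i, ?_, u, hu⟩
        intro hdom
        apply hcon i u hdom
        rw [← hpι, hu, hcomm, hz, hcl]
      · rintro ⟨i, hnd, u, hu⟩
        by_contra hz
        apply hnd
        refine isDominant_of_mem_range_genericPoint (f i) u ?_
        rw [← hpι, hu, hcomm, htwo _ hz, hη]
    have hopen : IsOpen ({IsLocalRing.closedPoint A} : Set (Spec (CommRingCat.of A))) := by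
      rw [← hq.isOpen_preimage, hC]
      exact hOopen.preimage (pullback.fst p hA).continuous
    -- contradiction: the generic point specializes to the closed point
    have hsp : ηA ⤳ IsLocalRing.closedPoint A := by
      let a : PrimeSpectrum A := ηA
      let b : PrimeSpectrum A := IsLocalRing.closedPoint A
      have h1 : a ≤ b := by
        show a.asIdeal ≤ b.asIdeal
        have : a.asIdeal = ⊥ := hηbot
        rw [this]
        exact bot_le
      exact (PrimeSpectrum.le_iff_specializes a b).mp h1
    exact hηne (hsp.mem_open hopen rfl)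

end Groth.Agent.H17.Unib
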